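import Groth.Agent.PurityReg.Normal
import Groth.Agent.RegNormal.Basic
import Groth.Agent.RegLocus.Smooth
import Mathlib.FieldTheory.Galois.IsGaloisGroup
import Mathlib.RingTheory.Invariant.Basic
import Mathlib.RingTheory.Smooth.Fiber

/-!
Purity of the branch locus for Galois extensions of regular local rings.
-/

set_option autoImplicit false

universe u w

namespace Groth.Agent.GaloisPurity

open IsLocalRing TensorProduct

variable {R B : Type u} [CommRing R] [CommRing B] [Algebra R B]
  {G : Type w} [Group G] [MulSemiringAction G B] [SMulCommClass G R B]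

variable (R) in
/-- `x ⊗ y ↦ x * g y`. -/
noncomputable def phi (g : G) : B ⊗[R] B →ₐ[R] B :=
  Algebra.TensorProduct.lift (AlgHom.id R B) (MulSemiringAction.toAlgHom R B g) fun _ _ => .all _ _

@[simp] theorem phi_tmul (g : G) (x y : B) : phi R g (x ⊗ₜ[R] y) = x * g • y := by
  simp [phi]

theorem exists_separating [Fintype G] [Module.Finite R B] [FaithfulSMul R B] [IsDomain B]
    (p : Ideal R) [p.IsPrime]
    (hin : ∀ Q : Ideal B, Q.IsPrime → Q.under R = p → Q.inertia G = ⊥) :
    ∃ r ∉ p, ∃ t : B ⊗[R] B, phi R (1 : G) t = algebraMap R B r ∧ ∀ g : G, g ≠ 1 → phi R g t = 0 := by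
  classical
  have hstep : ∀ g : G, g ≠ 1 → ∃ r ∉ p, ∃ f : B ⊗[R] B, phi R g f = 0 ∧ phi R (1 : G) f = algebraMap R B r := by
    intro g hg
    let I : Ideal B := Ideal.span (Set.range fun b : B => b - g • b)
    have hnle : ¬ I.comap (algebraMap R B) ≤ p := by
      intro hle
      obtain ⟨Q, hIQ, hQ, hQp⟩ := Ideal.exists_ideal_over_prime_of_isIntegral (R := R) p I hle
      refine hg ((Subgroup.mem_bot).1 (hin Q hQ hQp ▸ fun x => ?_))
      rw [← neg_sub]
      exact Q.neg_mem (hIQ (Ideal.subset_span ⟨x, rfl⟩))
    obtain ⟨r, hr, hrp⟩ := Set.not_subset.1 hnle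
    refine ⟨r, hrp, ?_⟩
    suffices ∀ y ∈ I, ∃ u : B ⊗[R] B, phi R g u = y ∧ phi R (1 : G) u = 0 by
      obtain ⟨u, hu, hu1⟩ := this _ hr
      refine ⟨algebraMap R B r ⊗ₜ 1 - u, ?_, ?_⟩
      · rw [map_sub, phi_tmul, smul_one, mul_one, hu, sub_self]
      · rw [map_sub, phi_tmul, smul_one, mul_one, hu1, sub_zero]
    intro y hy
    induction hy using Submodule.span_induction with
    | mem y hy =>
      obtain ⟨b, rfl⟩ := hy
      exact ⟨b ⊗ₜ 1 - (1 : B) ⊗ₜ b, by simp, by simp⟩
    | zero => exact ⟨0, map_zero _, map_zero _⟩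
    | add a b _ _ ha hb =>
      obtain ⟨u, hu, hu1⟩ := ha
      obtain ⟨v, hv, hv1⟩ := hb
      exact ⟨u + v, by rw [map_add, hu, hv], by rw [map_add, hu1, hv1, add_zero]⟩
    | smul c a _ ha =>
      obtain ⟨u, hu, hu1⟩ := ha
      refine ⟨(c ⊗ₜ 1) * u, ?_, ?_⟩
      · rw [map_mul, phi_tmul, smul_one, mul_one, hu, smul_eq_mul]
      · rw [map_mul, hu1, mul_zero]
  choose r hr f hf0 hf1 using hstep
  let r' : G → R := fun g => if h : g = 1 then 1 else r g h
  let f' : G → B ⊗[R] B := fun g => if h : g = 1 then 1 else f g h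
  refine ⟨∏ g, r' g, ?_, ∏ g, f' g, ?_, fun g hg => ?_⟩
  · intro hmem
    obtain ⟨g, -, hg⟩ := (Ideal.IsPrime.prod_mem_iff (p := p)).1 hmem
    by_cases h : g = 1
    · simp only [r', dif_pos h] at hg
      exact (Ideal.ne_top_iff_one p).1 Ideal.IsPrime.ne_top' hg
    · simp only [r', dif_neg h] at hg
      exact hr g h hg
  · rw [map_prod, map_prod]
    refine Finset.prod_congr rfl fun g _ => ?_
    by_cases h : g = 1
    · simp only [r', f', dif_pos h, map_one]
    · simp only [r', f', dif_neg h, hf1 g h]
  · rw [map_prod]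
    refine Finset.prod_eq_zero (Finset.mem_univ g) ?_
    simp only [f', dif_neg hg, hf0 g hg]

theorem etale_away [Fintype G] [IsNoetherianRing R] [Module.Finite R B] [FaithfulSMul R B]
    (hfix : ∀ b : B, (∀ g : G, g • b = b) → b ∈ Set.range (algebraMap R B))
    (r : R) (t : B ⊗[R] B) (h1 : phi R (1 : G) t = algebraMap R B r) (h0 : ∀ g : G, g ≠ 1 → phi R g t = 0) :
    Algebra.Etale R (Localization.Away (algebraMap R B r)) := by
  classical
  obtain ⟨S, hS⟩ := TensorProduct.exists_finset t
  have hT : ∀ b : B, ∃ c : R, algebraMap R B c = ∑ g : G, g • b := fun b => hfix _ fun g => by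
    rw [Finset.smul_sum]
    simp only [← mul_smul]
    exact Equiv.sum_comp (Equiv.mulLeft g) fun h : G => h • b
  choose T hT using hT
  -- duality
  have hx : ∀ g : G, ∑ i ∈ S, i.1 * g • i.2 = if g = 1 then algebraMap R B r else 0 := by
    intro g
    have := congrArg (phi R g) hS
    rw [map_sum] at this
    simp only [phi_tmul] at this
    rw [← this]
    split_ifs with h
    · subst h; exact h1
    · exact h0 g h
  have hdual : ∀ b : B, algebraMap R B r * b = ∑ i ∈ S, algebraMap R B (T (b * i.1)) * i.2 := by
    intro b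
    simp only [hT, Finset.sum_mul]
    rw [Finset.sum_comm]
    have : ∀ h : G, ∑ i ∈ S, h • (b * i.1) * i.2 = if h = 1 then algebraMap R B r * b else 0 := by
      intro h
      have e : ∑ i ∈ S, h • (b * i.1) * i.2 = h • (b * ∑ i ∈ S, i.1 * h⁻¹ • i.2) := by
        simp only [smul_mul', Finset.smul_sum, Finset.mul_sum, smul_inv_smul, mul_assoc]
      rw [e, hx]
      simp only [inv_eq_one]
      split_ifs with h'
      · subst h'; rw [one_smul, mul_comm]
      · rw [mul_zero, smul_zero]
    rw [Finset.sum_congr rfl fun h _ => this h, Finset.sum_ite_eq', if_pos (Finset.mem_univ _)]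
  have hdual' : ∀ b : B, ∑ i ∈ S, i.1 * algebraMap R B (T (b * i.2)) = algebraMap R B r * b := by
    intro b
    simp only [hT, Finset.mul_sum]
    rw [Finset.sum_comm]
    have : ∀ h : G, ∑ i ∈ S, i.1 * h • (b * i.2) = if h = 1 then algebraMap R B r * b else 0 := by
      intro h
      simp only [smul_mul', mul_left_comm _ (h • b)]
      rw [← Finset.mul_sum, hx]
      split_ifs with h'
      · subst h'; rw [one_smul, mul_comm]
      · rw [mul_zero]
    rw [Finset.sum_congr rfl fun h _ => this h, Finset.sum_ite_eq', if_pos (Finset.mem_univ _)]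
  have hcomm : ∀ s : B, r • ((((1 : B) ⊗ₜ[R] s) - s ⊗ₜ[R] (1 : B)) * t) = 0 := by
    intro s
    conv_lhs => rw [hS]
    rw [sub_mul, smul_sub, Finset.mul_sum, Finset.mul_sum, Finset.smul_sum, Finset.smul_sum, sub_eq_zero]
    simp only [Algebra.TensorProduct.tmul_mul_tmul, one_mul]
    calc ∑ i ∈ S, r • (i.1 ⊗ₜ[R] (s * i.2))
        = ∑ i ∈ S, ∑ j ∈ S, i.1 ⊗ₜ[R] (algebraMap R B (T (s * i.2 * j.1)) * j.2) := by
          refine Finset.sum_congr rfl fun i _ => ?_
          rw [← TensorProduct.tmul_smul, Algebra.smul_def, hdual, TensorProduct.tmul_sum]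
      _ = ∑ j ∈ S, (∑ i ∈ S, i.1 * algebraMap R B (T ((s * j.1) * i.2))) ⊗ₜ[R] j.2 := by
          rw [Finset.sum_comm]
          refine Finset.sum_congr rfl fun j _ => ?_
          rw [TensorProduct.sum_tmul]
          refine Finset.sum_congr rfl fun i _ => ?_
          rw [← Algebra.smul_def, TensorProduct.tmul_smul, TensorProduct.smul_tmul', Algebra.smul_def,
            mul_comm (algebraMap R B _), mul_right_comm s]
      _ = ∑ j ∈ S, r • ((s * j.1) ⊗ₜ[R] j.2) := by
          refine Finset.sum_congr rfl fun j _ => ?_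
          rw [hdual', ← Algebra.smul_def, TensorProduct.smul_tmul']
  -- flatness
  set T' := Localization.Away (algebraMap R B r)
  obtain ⟨v, hv⟩ : IsUnit (algebraMap R T' r) := by
    rw [IsScalarTower.algebraMap_apply R B T']
    exact IsLocalization.Away.algebraMap_isUnit _
  have hur : IsUnit (algebraMap R T' r) := ⟨v, hv⟩
  let Rr := Localization.Away r
  letI : Algebra Rr T' := (IsLocalization.Away.lift r (g := algebraMap R T') hur).toAlgebra
  haveI : IsScalarTower R Rr T' := IsScalarTower.of_algebraMap_eq fun z =>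
    (IsLocalization.Away.lift_eq r hur z).symm
  haveI : IsLocalization (Algebra.algebraMapSubmonoid B (Submonoid.powers r)) T' := by
    rw [Algebra.algebraMapSubmonoid, Submonoid.map_powers]
    infer_instance
  let τ : B →ₗ[R] R :=
    { toFun := T
      map_add' := fun x y => FaithfulSMul.algebraMap_injective R B (by
        rw [map_add, hT, hT, hT]
        simp only [smul_add, Finset.sum_add_distrib])
      map_smul' := fun c x => FaithfulSMul.algebraMap_injective R B (by
        rw [RingHom.id_apply, smul_eq_mul, map_mul, hT, hT, Finset.mul_sum]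
        refine Finset.sum_congr rfl fun g _ => ?_
        rw [← Algebra.smul_def, smul_comm g c x, Algebra.smul_def]) }
  let ι : B →ₗ[R] (S → R) := LinearMap.pi fun i => τ.comp (LinearMap.mulRight R i.1.1)
  let π : (S → R) →ₗ[R] B := Fintype.linearCombination R fun i : S => i.1.2
  have hπι : π.comp ι = r • LinearMap.id := by
    refine LinearMap.ext fun b => ?_
    show π (ι b) = r • b
    rw [Fintype.linearCombination_apply, Algebra.smul_def, hdual b, ← Finset.sum_coe_sort S]
    exact Finset.sum_congr rfl fun i _ => Algebra.smul_def _ _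
  obtain ⟨w, hw⟩ := IsLocalization.Away.algebraMap_isUnit r (S := Rr)
  haveI : Module.Flat Rr (Rr ⊗[R] B) := by
    refine Module.Flat.of_retract ((↑w⁻¹ : Rr) • ι.baseChange Rr) (π.baseChange Rr) ?_
    rw [LinearMap.comp_smul, ← LinearMap.baseChange_comp, hπι, LinearMap.baseChange_smul,
      LinearMap.baseChange_id, ← algebraMap_smul Rr r (LinearMap.id : Rr ⊗[R] B →ₗ[Rr] Rr ⊗[R] B), smul_smul,
      ← hw, Units.inv_mul, one_smul]
  haveI : Algebra.IsPushout R Rr B T' :=
    .symm <| Algebra.isPushout_of_isLocalization (Submonoid.powers r) Rr B T'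
  haveI : Module.Flat Rr T' := Module.Flat.of_linearEquiv (Algebra.IsPushout.equiv R Rr B T').toLinearEquiv.symm
  haveI : Module.Flat R Rr := IsLocalization.flat Rr (Submonoid.powers r)
  haveI : Module.Flat R T' := Module.Flat.trans R Rr T'
  haveI : Algebra.FinitePresentation R B := Algebra.FinitePresentation.of_finiteType.1 inferInstance
  haveI : Algebra.FinitePresentation B T' := IsLocalization.Away.finitePresentation (algebraMap R B r)
  haveI : Algebra.FinitePresentation R T' := Algebra.FinitePresentation.trans R B T'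
  -- separability
  let m : B ⊗[R] B →ₐ[R] T' ⊗[R] T' :=
    Algebra.TensorProduct.map (IsScalarTower.toAlgHom R B T') (IsScalarTower.toAlgHom R B T')
  set t' : T' ⊗[R] T' := ((↑v⁻¹ : T') ⊗ₜ[R] (1 : T')) * m t with ht'
  have hcancel : ∀ (n : ℕ) (z : T' ⊗[R] T'), algebraMap R (T' ⊗[R] T') (r ^ n) * z = 0 → z = 0 := by
    intro n z hz
    have hu : IsUnit (algebraMap R (T' ⊗[R] T') (r ^ n)) := by
      rw [map_pow, IsScalarTower.algebraMap_apply R T' (T' ⊗[R] T')]
      exact (hur.map _).pow n
    exact hu.mul_right_eq_zero.1 hz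
  have hB : ∀ s : B, (((1 : T') ⊗ₜ[R] algebraMap B T' s) - algebraMap B T' s ⊗ₜ[R] (1 : T')) * t' = 0 := by
    intro s
    rw [ht', mul_left_comm]
    refine mul_eq_zero_of_right _ (hcancel 1 _ ?_)
    have := congrArg m (hcomm s)
    rw [map_smul, map_mul, map_sub, map_zero, ← algebraMap_smul (T' ⊗[R] T') r, smul_eq_mul] at this
    rw [pow_one]
    simpa [m] using this
  haveI : Algebra.EssFiniteType R T' := inferInstance
  haveI : Algebra.FormallyUnramified R T' := by
    refine Algebra.FormallyUnramified.iff_exists_tensorProduct.2 ⟨t', fun s => ?_, ?_⟩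
    · obtain ⟨⟨b, _, n, rfl⟩, hb⟩ := IsLocalization.surj (Submonoid.powers (algebraMap R B r)) s
      refine hcancel n _ ?_
      have e : algebraMap B T' b = algebraMap R T' (r ^ n) * s := by
        rw [← hb, IsScalarTower.algebraMap_apply R B T', mul_comm]
        simp only [map_pow]
      have := hB b
      rw [e] at this
      have e1 : algebraMap R (T' ⊗[R] T') (r ^ n) = algebraMap R T' (r ^ n) ⊗ₜ[R] (1 : T') := rfl
      have e2 : algebraMap R (T' ⊗[R] T') (r ^ n) = (1 : T') ⊗ₜ[R] algebraMap R T' (r ^ n) :=
        ((Algebra.TensorProduct.includeRight : T' →ₐ[R] T' ⊗[R] T').commutes (r ^ n)).symm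
      rw [← mul_assoc, mul_sub]
      nth_rw 1 [e2]
      rw [e1, Algebra.TensorProduct.tmul_mul_tmul, Algebra.TensorProduct.tmul_mul_tmul, one_mul]
      exact this
    · have hm : ∀ z : B ⊗[R] B, Algebra.TensorProduct.lmul' R (m z) = algebraMap B T' (phi R (1 : G) z) := by
        intro z
        induction z using TensorProduct.induction_on with
        | zero => simp
        | tmul x y => simp [m]
        | add x y hx hy => simp only [map_add, hx, hy]
      rw [ht', map_mul, hm, h1, ← IsScalarTower.algebraMap_apply R B T', Algebra.TensorProduct.lmul'_apply_tmul,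
        mul_one, ← hv, Units.inv_mul]
  exact Algebra.Etale.of_formallyUnramified_of_flat

theorem eq_one_of_mem_inertia [IsDomain B] [FaithfulSMul G B] [IsNoetherianRing R] [Module.Finite R B]
    (Q : Ideal B) [Q.IsPrime] [Algebra.FormallyUnramified R (Localization.AtPrime Q)] (g : G)
    (hg : g ∈ Q.inertia G) : g = 1 := by
  set S := Localization.AtPrime Q
  let σ : B →+* B := MulSemiringAction.toRingHom G B g
  have hσQ : ∀ y : Q.primeCompl, IsUnit (((algebraMap B S).comp σ) y) := fun y => by
    refine IsLocalization.map_units S (⟨g • (y : B), fun h => y.2 ?_⟩ : Q.primeCompl)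
    have := Q.sub_mem h (hg (y : B))
    rwa [sub_sub_cancel] at this
  let γ₀ : S →+* S := IsLocalization.lift (g := (algebraMap B S).comp σ) hσQ
  have hγ : ∀ b : B, γ₀ (algebraMap B S b) = algebraMap B S (g • b) := fun b => IsLocalization.lift_eq hσQ b
  let γ : S →ₐ[R] S := AlgHom.mk γ₀ (fun c => by
    show γ₀ (algebraMap R S c) = algebraMap R S c
    rw [IsScalarTower.algebraMap_apply R B S, hγ, Algebra.algebraMap_eq_smul_one (R := R) (A := B), smul_comm,
      smul_one])
  haveI : Algebra.EssFiniteType R S := Algebra.EssFiniteType.comp R B S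
  obtain ⟨t, ht, ht1⟩ := Algebra.FormallyUnramified.iff_exists_tensorProduct.1
    (inferInstance : Algebra.FormallyUnramified R S)
  let Φ : S ⊗[R] S →ₐ[R] S := Algebra.TensorProduct.lift (AlgHom.id R S) γ fun _ _ => .all _ _
  have hres : ∀ s : S, residue S (γ s) = residue S s := by
    suffices (residue S).comp γ₀ = residue S from fun s => DFunLike.congr_fun this s
    refine IsLocalization.ringHom_ext Q.primeCompl (RingHom.ext fun b => ?_)
    show residue S (γ₀ (algebraMap B S b)) = residue S (algebraMap B S b)
    rw [hγ, ← sub_eq_zero, ← map_sub, ← map_sub, residue_eq_zero_iff, ← IsLocalization.AtPrime.map_eq_maximalIdeal Q S]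
    exact Ideal.mem_map_of_mem _ (hg b)
  have hΦ : ∀ z : S ⊗[R] S, residue S (Φ z) = residue S (Algebra.TensorProduct.lmul' R z) := by
    intro z
    induction z using TensorProduct.induction_on with
    | zero => simp
    | tmul x y => simp [Φ, hres]
    | add x y hx hy => simp only [map_add, hx, hy]
  have hu : IsUnit (Φ t) := by
    rw [← IsLocalRing.residue_ne_zero_iff_isUnit, hΦ, ht1, map_one]
    exact one_ne_zero
  refine FaithfulSMul.eq_of_smul_eq_smul (α := B) fun b => ?_
  rw [one_smul]
  have := congrArg Φ (ht (algebraMap B S b))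
  rw [map_mul, map_sub, map_zero] at this
  simp only [Φ, Algebra.TensorProduct.lift_tmul, map_one, one_mul, mul_one] at this
  rw [hu.mul_left_eq_zero, sub_eq_zero] at this
  exact IsLocalization.injective S Q.primeCompl_le_nonZeroDivisors ((hγ b).symm.trans this)

theorem inertia_eq_bot [Finite G] [IsRegularLocalRing R] [IsDomain B] [IsIntegrallyClosed B]
    [Module.Finite R B] [FaithfulSMul R B] [FaithfulSMul G B]
    (hfix : ∀ b : B, (∀ g : G, g • b = b) → b ∈ Set.range (algebraMap R B))
    (h : ∀ Q : Ideal B, Q.IsPrime → (Q.under R).height ≤ 1 → Q.inertia G = ⊥)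
    (Q : Ideal B) [Q.IsPrime] : Q.inertia G = ⊥ := by
  classical
  haveI : IsDomain R := (FaithfulSMul.algebraMap_injective R B).isDomain
  haveI := Fintype.ofFinite G
  suffices ∀ (n : ℕ) (p : Ideal R), p.IsPrime → p.height = n → ∀ Q : Ideal B, Q.IsPrime → Q.under R = p →
      Q.inertia G = ⊥ by
    obtain ⟨n, hn⟩ := ENat.ne_top_iff_exists.1 (Ideal.height_ne_top (I := Q.under R) Ideal.IsPrime.ne_top')
    exact this n _ inferInstance hn.symm Q inferInstance rfl
  intro n
  induction n using Nat.strong_induction_on with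
  | _ n ih =>
    intro p hp hpn Q hQ hQp
    rcases le_or_gt n 1 with hn | hn
    · exact h Q hQ (by rw [hQp, hpn]; exact_mod_cast hn)
    let Rp := Localization.AtPrime p
    haveI : IsRegularRing R := RegLocus.isRegularRing_of_regular_local R
    haveI : IsRegularLocalRing Rp := isRegularRing_iff.1 inferInstance p
    let M := Algebra.algebraMapSubmonoid B p.primeCompl
    let Bp := Localization M
    letI : Algebra Rp Bp := localizationAlgebra p.primeCompl B
    haveI : IsScalarTower R Rp Bp := IsScalarTower.of_algebraMap_eq fun z =>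
      ((IsLocalization.map_eq (T := M) (S := Rp) (Q := Bp) (g := algebraMap R B)
        (p.primeCompl.le_comap_map) z).trans (IsScalarTower.algebraMap_apply R B Bp z).symm).symm
    haveI : Module.Finite Rp Bp :=
      Module.Finite.of_isLocalization R B p.primeCompl
    have hM : M ≤ nonZeroDivisors B := by
      rintro _ ⟨c, hc, rfl⟩
      exact mem_nonZeroDivisors_of_ne_zero fun h0 => hc
        (by rw [(FaithfulSMul.algebraMap_eq_zero_iff R B).1 h0]; exact zero_mem _)
    haveI : IsDomain Bp := IsLocalization.isDomain_localization hM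
    haveI : IsIntegrallyClosed Bp := isIntegrallyClosed_of_isLocalization Bp M hM
    have hinj : Function.Injective (algebraMap Rp Bp) := by
      haveI : IsLocalization (p.primeCompl.map (algebraMap R B)) Bp := (inferInstance : IsLocalization M Bp)
      exact IsLocalization.map_injective_of_injective p.primeCompl Rp Bp (FaithfulSMul.algebraMap_injective R B)
    haveI : Algebra.FormallyUnramified R Rp := Algebra.FormallyUnramified.of_isLocalization p.primeCompl
    haveI : Algebra.Etale Rp Bp := by
      refine PurityReg.etale_of_normal ?_ hinj fun q' hq' => ?_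
      · rw [IsLocalization.AtPrime.ringKrullDim_eq_height p Rp, hpn]
        exact WithBot.coe_le_coe.2 (Nat.cast_le.2 (show 2 ≤ n by omega))
      let Q' := q'.asIdeal.under B
      let p' := Q'.under R
      have hp'eq : p' = (q'.asIdeal.comap (algebraMap Rp Bp)).comap (algebraMap R Rp) := by
        show ((q'.asIdeal.comap (algebraMap B Bp)).comap (algebraMap R B)) = _
        rw [Ideal.comap_comap, Ideal.comap_comap, ← IsScalarTower.algebraMap_eq, ← IsScalarTower.algebraMap_eq]
      have hlt : p' < p := by
        refine lt_of_le_of_ne ?_ fun he => hq' ?_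
        · exact hp'eq.trans_le ((Ideal.comap_mono (IsLocalRing.le_maximalIdeal Ideal.IsPrime.ne_top')).trans_eq
            (IsLocalization.AtPrime.under_maximalIdeal Rp p))
        · rw [← IsLocalization.map_under p.primeCompl Rp (q'.asIdeal.comap (algebraMap Rp Bp)),
            show Ideal.under R (q'.asIdeal.comap (algebraMap Rp Bp)) = p from hp'eq.symm.trans he,
            IsLocalization.AtPrime.map_eq_maximalIdeal p Rp]
      obtain ⟨m, hm⟩ := ENat.ne_top_iff_exists.1 (Ideal.height_ne_top (I := p') Ideal.IsPrime.ne_top')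
      have hmn : m < n := by
        have := Ideal.height_add_one_le_of_lt_of_isPrime hlt
        rw [← hm, hpn] at this
        have h' : m + 1 ≤ n := by exact_mod_cast this
        omega
      obtain ⟨r, hr, t, ht1, ht0⟩ := exists_separating (G := G) p' fun Q'' hQ'' he =>
        ih m hmn p' inferInstance hm.symm Q'' hQ'' he
      haveI := etale_away hfix r t ht1 ht0
      haveI : Algebra.FinitePresentation R B := Algebra.FinitePresentation.of_finiteType.1 inferInstance
      haveI : Algebra.IsEtaleAt R Q' :=
        Algebra.basicOpen_subset_etaleLocus_iff_etale.2 inferInstance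
          (show (⟨Q', inferInstance⟩ : PrimeSpectrum B) ∈ PrimeSpectrum.basicOpen (algebraMap R B r) from hr)
      haveI : IsLocalization.AtPrime (Localization.AtPrime q'.asIdeal) Q' :=
        IsLocalization.isLocalization_isLocalization_atPrime_isLocalization M (Localization.AtPrime q'.asIdeal) q'.asIdeal
      haveI : Algebra.FormallyEtale R (Localization.AtPrime q'.asIdeal) := Algebra.FormallyEtale.of_equiv
        ((IsLocalization.algEquiv Q'.primeCompl (Localization.AtPrime Q')
          (Localization.AtPrime q'.asIdeal)).restrictScalars R)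
      exact Algebra.FormallyEtale.of_restrictScalars (R := R)
    have hdis : Disjoint (M : Set B) Q := Set.disjoint_left.2 fun x hx hxQ => by
      obtain ⟨c, hc, rfl⟩ := hx
      exact hc (by rw [← hQp]; exact hxQ)
    let Q₁ := Q.map (algebraMap B Bp)
    haveI : Q₁.IsPrime := IsLocalization.isPrime_of_isPrime_disjoint M Bp Q hQ hdis
    have hQ₁ : Q₁.under B = Q := IsLocalization.comap_map_of_isPrime_disjoint M Bp hQ hdis
    haveI : Algebra.FormallyEtale R Rp := Algebra.FormallyEtale.of_isLocalization p.primeCompl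
    haveI : Algebra.FormallyEtale R Bp := Algebra.FormallyEtale.comp R Rp Bp
    haveI : Algebra.FormallyEtale R (Localization.AtPrime Q₁) :=
      haveI : Algebra.FormallyEtale Bp (Localization.AtPrime Q₁) :=
        Algebra.FormallyEtale.of_isLocalization Q₁.primeCompl
      Algebra.FormallyEtale.comp R Bp _
    haveI : IsLocalization.AtPrime (Localization.AtPrime Q₁) Q := by
      have := IsLocalization.isLocalization_isLocalization_atPrime_isLocalization M (Localization.AtPrime Q₁) Q₁
      simpa only [hQ₁] using this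
    haveI : Algebra.FormallyEtale R (Localization.AtPrime Q) := Algebra.FormallyEtale.of_equiv
      ((IsLocalization.algEquiv Q.primeCompl (Localization.AtPrime Q₁) (Localization.AtPrime Q)).restrictScalars R)
    exact eq_bot_iff.2 fun g hg => Subgroup.mem_bot.2 (eq_one_of_mem_inertia (R := R) Q g hg)

end Groth.Agent.GaloisPurity
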