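import Groth.Agent.GaloisPurity.Basic
import Groth.Agent.WildQuotGal.Invariants
import Groth.Agent.WildQuotGal.FreeAction

/-!
The inertia subgroups of the height one primes generate a totally ramified Galois group over a regular base.
-/

set_option autoImplicit false

universe u v w

namespace Groth.Agent.GaloisPurity

open IsLocalRing
open scoped Pointwise

variable {A : Type v} [CommRing A] {H : Type w} [Group H] [MulSemiringAction H A]

theorem conj_mem_inertia_smul (P : Ideal A) (g h : H) (hh : h ∈ P.inertia H) :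
    g * h * g⁻¹ ∈ (g • P).inertia H := fun x => by
  show (g * h * g⁻¹) • x - x ∈ g • P
  have : (g * h * g⁻¹) • x - x = g • (h • g⁻¹ • x - g⁻¹ • x) := by
    rw [smul_sub, smul_inv_smul, mul_smul, mul_smul]
  rw [this]
  exact Ideal.smul_mem_pointwise_smul g _ P (hh _)

theorem inertia_bot [FaithfulSMul H A] : (⊥ : Ideal A).inertia H = ⊥ := by
  refine eq_bot_iff.2 fun σ hσ => ?_
  rw [Subgroup.mem_bot]
  refine FaithfulSMul.eq_of_smul_eq_smul (α := A) fun a => ?_
  rw [one_smul]
  exact sub_eq_zero.1 (Ideal.mem_bot.1 (hσ a))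

theorem iSup_inertia_eq_top {R : Type v} [CommRing R] [IsRegularLocalRing R] [IsDomain A] [IsIntegrallyClosed A]
    [IsLocalRing A] [Algebra R A] [Module.Finite R A] [FaithfulSMul R A]
    (hres : Function.Surjective (residue A ∘ algebraMap R A))
    [Finite H] [SMulCommClass H R A] [FaithfulSMul H A]
    (hfix : ∀ a : A, (∀ h : H, h • a = a) → a ∈ Set.range (algebraMap R A)) :
    (⨆ P : {P : Ideal A // P.IsPrime ∧ P.height = 1}, P.1.inertia H) = ⊤ := by
  classical
  set N : Subgroup H := ⨆ P : {P : Ideal A // P.IsPrime ∧ P.height = 1}, P.1.inertia H with hN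
  have hmemN : ∀ P : Ideal A, P.IsPrime → P.height = 1 → P.inertia H ≤ N := fun P h1 h2 =>
    le_iSup (fun P : {P : Ideal A // P.IsPrime ∧ P.height = 1} => P.1.inertia H) ⟨P, h1, h2⟩
  haveI hnorm : N.Normal := by
    refine ⟨fun n hn g => ?_⟩
    have hle : N ≤ N.comap (MulAut.conj g).toMonoidHom := by
      refine iSup_le fun P x hx => ?_
      obtain ⟨P, hP, hP1⟩ := P
      haveI := hP
      refine hmemN (g • P) inferInstance ?_ (conj_mem_inertia_smul P g x hx)
      rw [Ideal.pointwise_smul_def, ← hP1]
      exact ((MulSemiringAction.toRingEquiv H A g).height_map P)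
    exact hle hn
  haveI : IsDomain R := (FaithfulSMul.algebraMap_injective R A).isDomain
  haveI : IsIntegrallyClosed R := RegNormal.isIntegrallyClosed R
  let B : Subalgebra R A := FixedPoints.subalgebra R A N
  haveI : IsNoetherianRing R := inferInstance
  haveI : Module.Finite R B := Module.Finite.of_fg (IsNoetherian.noetherian B.toSubmodule)
  haveI : IsIntegrallyClosed B := by
    haveI := WildQuotGal.fixedSubring_isIntegrallyClosed (A := A) (G := N)
    exact (inferInstance : IsIntegrallyClosed (FixedPoints.subring A N))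
  haveI : FaithfulSMul R B := (faithfulSMul_iff_algebraMap_injective R B).2 fun x y h =>
    FaithfulSMul.algebraMap_injective R A (congrArg Subtype.val h)
  have hstab : ∀ (h : H) (b : A), b ∈ B → h • b ∈ B := fun h b hb n => by
    show (n : H) • h • b = h • b
    have h1 : (⟨h⁻¹ * n * h, by simpa using hnorm.conj_mem n n.2 h⁻¹⟩ : N) • b = b := hb _
    change (h⁻¹ * (n : H) * h) • b = b at h1
    rw [mul_smul, mul_smul, inv_smul_eq_iff] at h1
    exact h1
  let act : H →* (B ≃ₐ[R] B) :=
    { toFun := fun h =>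
        AlgEquiv.ofAlgHom
          (((MulSemiringAction.toAlgHom R A h).comp B.val).codRestrict B fun b => hstab h b b.2)
          (((MulSemiringAction.toAlgHom R A h⁻¹).comp B.val).codRestrict B fun b => hstab h⁻¹ b b.2)
          (AlgHom.ext fun b => Subtype.ext (smul_inv_smul h (b : A)))
          (AlgHom.ext fun b => Subtype.ext (inv_smul_smul h (b : A)))
      map_one' := AlgEquiv.ext fun b => Subtype.ext (one_smul H (b : A))
      map_mul' := fun g h => AlgEquiv.ext fun b => Subtype.ext (mul_smul g h (b : A)) }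
  let G := act.range
  have hact : ∀ (h : H) (b : B), ((act h b : B) : A) = h • (b : A) := fun _ _ => rfl
  have hfixB : ∀ b : B, (∀ g : G, g • b = b) → b ∈ Set.range (algebraMap R B) := fun b hb => by
    obtain ⟨r, hr⟩ := hfix b fun h => (hact h b).symm.trans (congrArg Subtype.val (hb ⟨act h, h, rfl⟩))
    exact ⟨r, Subtype.ext hr⟩
  haveI : Algebra.IsIntegral B A := Algebra.IsIntegral.tower_top R
  have hlow : ∀ q : Ideal B, q.IsPrime → (q.under R).height ≤ 1 → q.inertia G = ⊥ := by
    intro q hq hq1
    rw [eq_bot_iff]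
    rintro ⟨_, h, rfl⟩ hh
    rw [Subgroup.mem_bot]
    refine Subtype.ext (AlgEquiv.ext fun b => Subtype.ext ?_)
    show h • (b : A) = b
    suffices h ∈ N from b.2 ⟨h, this⟩
    obtain ⟨Q, -, hQ, hQq⟩ := Ideal.exists_ideal_over_prime_of_isIntegral (R := B) (S := A) q ⊥ (by
      rw [← RingHom.ker_eq_comap_bot, (RingHom.injective_iff_ker_eq_bot _).1 Subtype.val_injective]
      exact bot_le)
    haveI := hQ
    obtain ⟨k, hk, hkh⟩ := WildQuotGal.exists_mul_mem_inertia (R := R) N Q h fun c hc => by
      have hcB : c ∈ B := fun n => hc n n.2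
      have := hh ⟨c, hcB⟩
      rw [← hQq] at this
      exact this
    have hin : h * k⁻¹ ∈ Q.inertia H := fun x => by
      show (h * k⁻¹) • x - x ∈ Q
      have := hkh (k⁻¹ • x)
      rwa [smul_inv_smul, ← mul_smul] at this
    have hQN : Q.inertia H ≤ N := by
      have hle : Q.height ≤ 1 := by
        rw [DimTheory.height_eq_height_under R A Q]
        refine le_trans (le_of_eq ?_) hq1
        rw [← hQq]
        rfl
      rcases eq_or_ne Q ⊥ with rfl | hne
      · rw [inertia_bot]; exact bot_le
      · exact hmemN Q hQ (le_antisymm hle (Order.one_le_iff_ne_zero.2 (mt Ideal.height_eq_zero_iff_eq_bot.1 hne)))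
    have := N.mul_mem (hQN hin) hk
    rwa [inv_mul_cancel_right] at this
  let q := (maximalIdeal A).comap (algebraMap B A)
  haveI : q.IsPrime := Ideal.comap_isPrime _ _
  have hq := inertia_eq_bot (R := R) (G := G) hfixB hlow q
  have hB : ∀ b : B, b ∈ Set.range (algebraMap R B) := fun b => hfixB b fun g => by
    have hg : g = 1 := by
      rw [← Subgroup.mem_bot, ← hq]
      obtain ⟨_, h, rfl⟩ := g
      intro c
      show h • (c : A) - c ∈ maximalIdeal A
      exact WildQuotGal.smul_sub_mem hres (fun σ r => by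
        rw [Algebra.algebraMap_eq_smul_one, smul_comm, smul_one]) h (c : A)
    rw [hg, one_smul]
  haveI : IsGaloisGroup H R A := ⟨inferInstance, inferInstance, ⟨fun a ha => hfix a ha⟩⟩
  haveI : IsGaloisGroup N R A := ⟨inferInstance, inferInstance, ⟨fun a ha => by
    obtain ⟨r, hr⟩ := hB ⟨a, ha⟩
    exact ⟨r, congrArg Subtype.val hr⟩⟩⟩
  exact Subgroup.eq_top_of_card_eq N
    ((IsGaloisGroup.card_eq_finrank' N R A).trans (IsGaloisGroup.card_eq_finrank' H R A).symm)

theorem iSup_inertia_eq_top' {R : Type u} [CommRing R] [IsRegularLocalRing R] [IsDomain A] [IsIntegrallyClosed A]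
    [IsLocalRing A] [Algebra R A] [Module.Finite R A] (hinj : Function.Injective (algebraMap R A))
    (hres : Function.Surjective (residue A ∘ algebraMap R A))
    [Finite H] [SMulCommClass H R A] [FaithfulSMul H A]
    (hfix : ∀ a : A, (∀ h : H, h • a = a) → a ∈ Set.range (algebraMap R A)) :
    (⨆ P : {P : Ideal A // P.IsPrime ∧ P.height = 1}, P.1.inertia H) = ⊤ := by
  let R0 : Subring A := (algebraMap R A).range
  let e : R ≃+* R0 := RingEquiv.ofBijective (algebraMap R A).rangeRestrict
    ⟨fun x y h => hinj (congrArg Subtype.val h), RingHom.rangeRestrict_surjective _⟩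
  haveI : IsRegularLocalRing R0 := IsRegularLocalRing.of_ringEquiv e
  letI : Algebra R R0 := (algebraMap R A).rangeRestrict.toAlgebra
  haveI : IsScalarTower R R0 A := IsScalarTower.of_algebraMap_eq' rfl
  haveI : Module.Finite R0 A := Module.Finite.of_restrictScalars_finite R R0 A
  haveI : FaithfulSMul R0 A := (faithfulSMul_iff_algebraMap_injective R0 A).2 Subtype.val_injective
  haveI : SMulCommClass H R0 A := ⟨fun h r a => by
    obtain ⟨x, hx⟩ := r.2
    show h • ((r : A) * a) = (r : A) * h • a
    rw [← hx, smul_mul', Algebra.algebraMap_eq_smul_one, smul_comm, smul_one]⟩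
  refine iSup_inertia_eq_top (R := R0) (fun t => ?_) fun a ha => ⟨⟨a, hfix a ha⟩, rfl⟩
  obtain ⟨r, hr⟩ := hres t
  exact ⟨⟨algebraMap R A r, r, rfl⟩, hr⟩

end Groth.Agent.GaloisPurity
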